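import Groth.Agent.Lib.StAlg16.QSBase
import Groth.Agent.Lib.StAlg16.PointsSp
import Groth.Agent.Lib.StAlg16.Squares
import Groth.Agent.Lib.IsoNat5.QCPre
import Groth.Agent.Lib.StQC14.FpqcDesc
import Groth.Agent.Lib.AlgSpace.QC
import Groth.Agent.Lib.RedSep.Basic
import Groth.Agent.Lib.StAlg16.LargestOpen

/-!
# Quasi-compactness over locally Noetherian schemes by Noetherian induction
-/

universe u

open CategoryTheory CategoryTheory.Functor CategoryTheory.Limits AlgebraicGeometry Opposite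

set_option linter.style.haveILetI false
set_option linter.unusedSectionVars false
set_option backward.isDefEq.respectTransparency false
set_option backward.isDefEq.respectTransparency.types false

namespace Groth.Agent.DiagQC16

open Groth.Agent.FC16 hiding overMap
open Groth.Agent.StAlg Groth.Agent.StAlg16 AlgSt

variable {S : Scheme.{u}}

theorem with_toSelf_lfp (V : Over S) [LocallyOfFinitePresentation V.hom] :
    AlgSt.RepByAlgSpWith (AlgSp.LocP @LocallyOfFinitePresentation) (FibCat.toSelf (FibCat.overCat V)) := by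
  let k : V ⟶ Over.mk (𝟙 S) := Over.homMk V.hom (Category.comp_id _)
  obtain ⟨E, hE, -, -⟩ := exists_inverse (selfToTerm_isEquivOver (S := S))
  obtain ⟨j⟩ := selfOver_functor_iso (BasedFunctor.comp (AlgSt.overMap k) E)
    (BasedFunctor.comp (BasedFunctor.id _) (FibCat.toSelf (FibCat.overCat V)))
  exact (with_congr (f := FibCat.toSelf (FibCat.overCat V)) (f' := AlgSt.overMap k)
    (a := BasedFunctor.id _) (b := E) isEquivOver_id hE j).2
    (with_locP_overMap k (inferInstanceAs (LocallyOfFinitePresentation V.hom)))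

theorem with_qc_diag_toSelf (V : Over S) [QuasiSeparated V.hom] :
    AlgSt.RepByAlgSpWith AlgSp.IsQuasiCompactMor (FibCat.diag (FibCat.toSelf (FibCat.overCat V))) := by
  let k : V ⟶ Over.mk (𝟙 S) := Over.homMk V.hom (Category.comp_id _)
  obtain ⟨E, hE, -, -⟩ := exists_inverse (selfToTerm_isEquivOver (S := S))
  obtain ⟨j⟩ := selfOver_functor_iso (BasedFunctor.comp (AlgSt.overMap k) E)
    (BasedFunctor.comp (BasedFunctor.id _) (FibCat.toSelf (FibCat.overCat V)))
  refine (with_diag_congr (f := FibCat.toSelf (FibCat.overCat V)) (f' := AlgSt.overMap k)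
    (a := BasedFunctor.id _) (b := E) isEquivOver_id hE j).2 ?_
  refine (with_diag_congr (f := AlgSt.overMap k) (f' := AlgSt.ofSpMap ((AlgSp.yon S).map k))
    (a := AlgSt.toOverCat V) (b := AlgSt.toOverCat _) (toOverCat_isEquivOver V) (toOverCat_isEquivOver _)
    (overMapIso k)).2 (with_diag_ofSpMap _ ?_)
  have hP := AlgSpace.isAlgSpace_pullback (AlgSp.IsAlgSpace.yon_obj _) (AlgSp.IsAlgSpace.yon_obj V)
    (AlgSp.IsAlgSpace.yon_obj V) (IsPullback.of_hasPullback ((AlgSp.yon S).map k) ((AlgSp.yon S).map k))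
  have h := (AlgSp.repWith_diagonal_yon_map_iff @QuasiCompact k).2
    (QuasiSeparated.quasiCompact_diagonal (f := V.hom))
  exact repBySpWith_of_space (fun _ _ _ _ _ _ _ _ _ _ _ _ sq ha => AlgSpace.isQuasiCompactMor_of_isPullback sq ha)
    (AlgSp.IsAlgSpace.yon_obj V) hP
    ((AlgSpace.repWith_quasiCompact_iff (AlgSp.IsAlgSpace.yon_obj V) hP h.1).1 h)

/-- functors into a fibre product over the base are isomorphic as soon as their components are -/
theorem pairIsoSelf {𝒜 𝒳 𝒳' : AlgSt.Cat S} {z z' : 𝒜 ⥤ᵇ FibCat.fp (FibCat.toSelf 𝒳) (FibCat.toSelf 𝒳')}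
    (i₁ : BasedFunctor.comp z (FibCat.fpFst _ _) ≅ BasedFunctor.comp z' (FibCat.fpFst _ _))
    (i₂ : BasedFunctor.comp z (FibCat.fpSnd _ _) ≅ BasedFunctor.comp z' (FibCat.fpSnd _ _)) : Nonempty (z ≅ z') := by
  let F₁ : ∀ a, (z.obj a).obj.fst ≅ (z'.obj a).obj.fst := fun a => appIso i₁ a
  let F₂ : ∀ a, (z.obj a).obj.snd ≅ (z'.obj a).obj.snd := fun a => appIso i₂ a
  refine ⟨BasedNatIso.mkNatIso
    (NatIso.ofComponents (fun a => fpIsoMk (F₁ a) (F₂ a) ?_) (fun {a b} φ => fp_hom_ext
      (i₁.hom.toNatTrans.naturality φ) (i₂.hom.toNatTrans.naturality φ)))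
    (fun a => @isHomLift_of_fst _ _ _ _ _ _ _ _ _ _ _ _ _ (isHomLift_appIso_hom i₁ a rfl))⟩
  haveI : 𝒳.p.IsHomLift (𝟙 (𝒜.p.obj a)) (F₁ a).hom := isHomLift_appIso_hom i₁ a rfl
  haveI : 𝒳'.p.IsHomLift (𝟙 (𝒜.p.obj a)) (F₂ a).hom := isHomLift_appIso_hom i₂ a rfl
  haveI := iso_lift (z.obj a) (U := 𝒜.p.obj a) (z.w_obj a)
  haveI := iso_lift (z'.obj a) (U := 𝒜.p.obj a) (z'.w_obj a)
  haveI : (FibCat.selfOver (Over S)).p.IsHomLift (𝟙 (𝒜.p.obj a)) ((FibCat.toSelf 𝒳).map (F₁ a).hom) :=
    BasedFunctor.preserves_isHomLift (FibCat.toSelf 𝒳) _ _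
  haveI : (FibCat.selfOver (Over S)).p.IsHomLift (𝟙 (𝒜.p.obj a)) ((FibCat.toSelf 𝒳').map (F₂ a).hom) :=
    BasedFunctor.preserves_isHomLift (FibCat.toSelf 𝒳') _ _
  have u : ∀ {X Y : (FibCat.selfOver (Over S)).obj} {T : Over S} (φ ψ : X ⟶ Y),
      (FibCat.selfOver (Over S)).p.IsHomLift (𝟙 T) φ → (FibCat.selfOver (Over S)).p.IsHomLift (𝟙 T) ψ → φ = ψ :=
    fun {X Y T} φ ψ hφ hψ =>
      (IsHomLift.fac' (FibCat.selfOver (Over S)).p (𝟙 T) φ).trans (IsHomLift.fac' (FibCat.selfOver (Over S)).p (𝟙 T) ψ).symm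
  exact u (T := 𝒜.p.obj a) _ _ inferInstance inferInstance

/-- a point is the image of the point of a field-valued functor -/
theorem exists_field_point {𝒜 : AlgSt.Cat S} (gA : FibCat.IsFibGrpd 𝒜.p) (p : Points 𝒜) :
    ∃ (K : Type u) (_ : Field K) (str : Spec (CommRingCat.of K) ⟶ S)
      (E : FibCat.overCat (Over.mk str) ⥤ᵇ 𝒜) (t : ↥(Over.mk str).left), Points.ofChart E t = p := by
  obtain ⟨q, rfl⟩ := Points.mk_surjective p
  haveI := FC16.isFibered gA
  let o : FPt (FibCat.overCat (Over.mk q.str)) := ⟨q.K, q.str, Over.mk (𝟙 _), rfl⟩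
  let E := ofObj (U := Over.mk q.str) q.lies
  refine ⟨q.K, inferInstance, q.str, E, ptOf (Points.mk o), ?_⟩
  rw [ofChart_eq, mk_chartPt_ptOf]
  exact Points.sound ⟨o.map E, 𝟙 _, (ofObjIso (U := Over.mk q.str) q.lies).hom, trivial⟩

/-- the image of the second projection of the fibre product with a slice -/
theorem range_fpSnd {𝒜 𝒬 : AlgSt.Cat S} (gA : FibCat.IsFibGrpd 𝒜.p) (g𝒬 : FibCat.IsFibGrpd 𝒬.p) {V : Over S}
    (y : FibCat.overCat V ⥤ᵇ 𝒬) (Φ : 𝒜 ⥤ᵇ 𝒬) :
    Set.range (Points.map (FibCat.fpSnd y Φ)) = Points.map Φ ⁻¹' Set.range (Points.map y) := by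
  ext x
  constructor
  · rintro ⟨w, rfl⟩
    exact ⟨Points.map (FibCat.fpFst _ Φ) w, by
      rw [← StAlg16.map_comp_apply, ← StAlg16.map_comp_apply, map_eq_map_of_iso (FibCat.fpIso _ Φ)]⟩
  · rintro ⟨a, ha⟩
    obtain ⟨w, -, hw⟩ := exists_fp_point gA g𝒬 (overCat_isFibGrpd _) Φ _ a x ha
    exact ⟨w, hw⟩

/-- quasi-compact over some nonempty open of every integral affine scheme over the base -/
def GenQC {𝒜 : AlgSt.Cat S} {T : Over S} (Φ : 𝒜 ⥤ᵇ FibCat.overCat T) : Prop :=
  ∀ (Z : Over S), IsAffine Z.left → IsIntegral Z.left → ∀ h : Z ⟶ T, ∃ V : Z.left.Opens,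
    (V : Set ↥Z.left).Nonempty ∧ AlgSt.IsQuasiCompact (FibCat.fp (AlgSt.overMap (openIncl V ≫ h)) Φ)

variable {𝒜 : AlgSt.Cat S} {T : Over S} {Φ : 𝒜 ⥤ᵇ FibCat.overCat T}

theorem isCompact_preimage_of_affine (hA0 : IsAlgStack Scheme.fppfPrecoverage 𝒜) [IsLocallyNoetherian T.left]
    (hΦ : GenQC Φ) {A : T.left.Opens} (hA : IsAffineOpen A) :
    IsCompact ((fun p => ptOf (Points.map Φ p)) ⁻¹' (A : Set ↥T.left)) := by
  haveI : IsAffine A.toScheme := hA
  haveI : IsLocallyNoetherian A.toScheme := isLocallyNoetherian_of_isOpenImmersion A.ι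
  haveI : IsNoetherian A.toScheme := {}
  haveI : TopologicalSpace.NoetherianSpace A.toScheme := inferInstance
  suffices H : ∀ C : TopologicalSpace.Closeds A.toScheme,
      IsCompact ((fun p => ptOf (Points.map Φ p)) ⁻¹' (A.ι '' (C : Set A.toScheme))) by
    have := H ⊤
    rwa [TopologicalSpace.Closeds.coe_top, Set.image_univ, Scheme.Opens.range_ι] at this
  intro C
  induction C using WellFoundedLT.induction with
  | _ C ih =>
    by_cases hC : IsIrreducible (C : Set A.toScheme)
    · let I := Scheme.IdealSheafData.vanishingIdeal C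
      let Z : Over S := Over.mk (I.subschemeι ≫ A.ι ≫ T.hom)
      let h : Z ⟶ T := Over.homMk (I.subschemeι ≫ A.ι) (Category.assoc _ _ _)
      haveI : IsAffine Z.left := isAffine_of_isAffineHom I.subschemeι
      have hr : Set.range I.subschemeι = (C : Set A.toScheme) := by
        rw [Scheme.IdealSheafData.range_subschemeι]; exact Scheme.IdealSheafData.coe_support_vanishingIdeal _
      haveI : IsIntegral Z.left := by
        haveI : IsReduced I.subscheme := RedSepLib.isReduced_vanishingIdeal_subscheme C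
        haveI : IrreducibleSpace ↥I.subscheme := by
          haveI : IrreducibleSpace ↥(C : Set A.toScheme) := isIrreducible_iff_irreducibleSpace.1 hC
          let e := (I.subschemeι.isClosedEmbedding.isEmbedding.toHomeomorph.trans (Homeomorph.setCongr hr)).symm
          refine (irreducibleSpace_def _).2 ?_
          have := (IrreducibleSpace.isIrreducible_univ ↥(C : Set A.toScheme)).image e e.continuous.continuousOn
          rwa [Set.image_univ, e.surjective.range_eq] at this
        exact isIntegral_of_irreducibleSpace_of_isReduced I.subscheme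
      obtain ⟨V, ⟨v, hv⟩, hq⟩ := hΦ Z inferInstance inferInstance h
      have hP := isAlgStack_fp' (isAlgStack_overCat (openPart V)) hA0 (isAlgStack_overCat T)
        (AlgSt.overMap (openIncl V ≫ h)) Φ
      haveI := compactSpace_of_isQuasiCompact hP hq
      have hV : IsCompact ((fun p => ptOf (Points.map Φ p)) ⁻¹' (A.ι '' (I.subschemeι '' (V : Set ↥Z.left)))) := by
        convert isCompact_range (continuous_map hA0 (FibCat.fpSnd (AlgSt.overMap (openIncl V ≫ h)) Φ)) using 1
        rw [range_fpSnd hA0.isStack.1 (overCat_isFibGrpd T)]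
        ext p
        simp only [Set.mem_preimage]
        constructor
        · rintro ⟨a, ⟨b, hb, rfl⟩, hp⟩
          refine ⟨Points.mk (chartPt (openPart V) ⟨b, hb⟩), ?_⟩
          rw [map_overMap_chartPt, ← mk_chartPt_ptOf (Points.map Φ p), ← hp]
          rfl
        · rintro ⟨q, hq'⟩
          rw [← mk_chartPt_ptOf q, map_overMap_chartPt] at hq'
          refine ⟨_, ⟨(ptOf q).1, (ptOf q).2, rfl⟩, ?_⟩
          rw [← hq', ptOf_chartPt]
          rfl
      obtain ⟨U', hU', hU'V⟩ := (I.subschemeι.isClosedEmbedding.isEmbedding.isInducing.isOpen_iff).1 V.isOpen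
      have hlt : C ⊓ ⟨U'ᶜ, hU'.isClosed_compl⟩ < C := by
        refine inf_lt_left.2 fun hle => ?_
        have hm : I.subschemeι v ∈ (C : Set A.toScheme) := hr ▸ Set.mem_range_self v
        exact (hle hm) (show v ∈ I.subschemeι ⁻¹' U' from hU'V.symm ▸ hv)
      have hd := (ih _ hlt).union hV
      convert hd using 1
      rw [← Set.preimage_union, ← Set.image_union]
      congr 2
      ext a
      simp only [Set.mem_union, TopologicalSpace.Closeds.coe_inf, Set.mem_inter_iff, Set.mem_image]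
      constructor
      · intro ha
        by_cases haU : a ∈ U'
        · obtain ⟨b, rfl⟩ : a ∈ Set.range I.subschemeι := hr.symm ▸ ha
          exact Or.inr ⟨b, (hU'V ▸ (show b ∈ I.subschemeι ⁻¹' U' from haU) : b ∈ (V : Set ↥Z.left)), rfl⟩
        · exact Or.inl ⟨ha, haU⟩
      · rintro (⟨ha, -⟩ | ⟨b, -, rfl⟩)
        · exact ha
        · exact hr ▸ Set.mem_range_self b
    · rcases (C : Set A.toScheme).eq_empty_or_nonempty with he | hne
      · rw [he]; simp
      · rw [IsIrreducible, not_and, IsPreirreducible] at hC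
        have hC' := hC hne
        push Not at hC'
        obtain ⟨u₁, u₂, h₁, h₂, ⟨a, ha, ha₁⟩, ⟨b, hb, hb₂⟩, h12⟩ := hC'
        have l₁ : C ⊓ ⟨u₁ᶜ, h₁.isClosed_compl⟩ < C := inf_lt_left.2 fun hle => hle ha ha₁
        have l₂ : C ⊓ ⟨u₂ᶜ, h₂.isClosed_compl⟩ < C := inf_lt_left.2 fun hle => hle hb hb₂
        have hd := (ih _ l₁).union (ih _ l₂)
        convert hd using 1
        rw [← Set.preimage_union, ← Set.image_union]
        congr 2
        ext c
        simp only [Set.mem_union, TopologicalSpace.Closeds.coe_inf, Set.mem_inter_iff]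
        constructor
        · intro hc
          by_cases hc₁ : c ∈ u₁
          · refine Or.inr ⟨hc, fun hc₂ => ?_⟩
            exact Set.notMem_empty c (h12 ▸ ⟨hc, hc₁, hc₂⟩ : c ∈ (∅ : Set A.toScheme))
          · exact Or.inl ⟨hc, hc₁⟩
        · rintro (h | h) <;> exact h.1

theorem isQuasiCompactMor_of_genQC [IsLocallyNoetherian S] [IsLocallyNoetherian T.left]
    (hA0 : IsAlgStack Scheme.fppfPrecoverage 𝒜) (hΦ : GenQC Φ) :
    AlgSt.IsQuasiCompactMor Scheme.fppfPrecoverage Φ := by
  haveI : QuasiSeparated T.hom := by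
    haveI : QuasiSeparated (T.hom ≫ terminal.from S) := by
      rw [show T.hom ≫ terminal.from S = terminal.from T.left from Subsingleton.elim _ _]
      exact (quasiSeparatedSpace_iff_quasiSeparated T.left).1 inferInstance
    exact QuasiSeparated.of_comp T.hom (terminal.from S)
  refine IsoNat5.isQuasiCompactMor_of_preimage hA0 (isAlgStack_overCat T) (with_qc_diag_toSelf T) fun O hO hOc => ?_
  let O' : Set ↥T.left := (fun t => Points.mk (chartPt T t)) ⁻¹' O
  have hc : Continuous fun t => Points.mk (chartPt T t) := by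
    have := continuous_ofChart (isAlgStack_overCat T) (BasedFunctor.id (FibCat.overCat T))
    convert this using 1
    funext t
    rw [ofChart_eq, map_id_apply]
  have hO' : IsCompact O' := by
    have : O' = ptOf '' O := by
      ext t
      exact ⟨fun ht => ⟨_, ht, ptOf_chartPt t⟩, fun ⟨q, hq, e⟩ => by
        show Points.mk (chartPt T t) ∈ O
        rwa [← e, mk_chartPt_ptOf]⟩
    rw [this]
    refine hOc.image (continuous_def.2 fun W hW => ?_)
    have hom := isOpenMap_ofChart (x := BasedFunctor.id (FibCat.overCat T)) (overCat_isFibGrpd T)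
      (with_id_overCat T) (with_id_overCat T)
    convert hom W hW using 1
    ext q
    constructor
    · intro hq
      exact ⟨ptOf q, hq, by rw [ofChart_eq, map_id_apply, mk_chartPt_ptOf]⟩
    · rintro ⟨t, ht, rfl⟩
      show ptOf _ ∈ W
      rwa [ofChart_eq, map_id_apply, ptOf_chartPt]
  obtain ⟨s, hs⟩ := hO'.elim_finite_subcover
    (fun A : {A : T.left.affineOpens // ((A : T.left.Opens) : Set ↥T.left) ⊆ O'} => ((A.1 : T.left.Opens) : Set ↥T.left))
    (fun A => A.1.1.isOpen) (fun t ht => by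
      obtain ⟨W, hW, htW, hWO⟩ := exists_isAffineOpen_mem_and_subset (X := T.left) (x := t)
        (U := ⟨O', hO.preimage hc⟩) ht
      exact Set.mem_iUnion.2 ⟨⟨⟨W, hW⟩, hWO⟩, htW⟩)
  have e : Points.map Φ ⁻¹' O =
      ⋃ A ∈ s, (fun p => ptOf (Points.map Φ p)) ⁻¹' ((A.1 : T.left.Opens) : Set ↥T.left) := by
    ext p
    simp only [Set.mem_preimage, Set.mem_iUnion]
    constructor
    · intro hp
      have : ptOf (Points.map Φ p) ∈ O' := by
        show Points.mk (chartPt T _) ∈ O
        rwa [mk_chartPt_ptOf]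
      obtain ⟨A, hA, hA'⟩ := Set.mem_iUnion₂.1 (hs this)
      exact ⟨A, hA, hA'⟩
    · rintro ⟨A, -, hA'⟩
      have := A.2 hA'
      change Points.mk (chartPt T _) ∈ O at this
      rwa [mk_chartPt_ptOf] at this
  rw [e]
  exact s.isCompact_biUnion fun A _ => isCompact_preimage_of_affine hA0 hΦ A.1.2

end Groth.Agent.DiagQC16
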