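import Groth.Agent.Lib.DiagQC16.Basic
import Groth.Agent.Lib.StAlg16.QCMor

/-!
# Quasi-compactness of the diagonal from automorphisms and generic isomorphisms
-/

universe u

open CategoryTheory CategoryTheory.Functor CategoryTheory.Limits AlgebraicGeometry Opposite

set_option linter.style.haveILetI false
set_option linter.unusedSectionVars false
set_option backward.isDefEq.respectTransparency false
set_option backward.isDefEq.respectTransparency.types false

namespace Groth.Agent.DiagQC16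

open Groth.Agent.FC16 hiding overMap
open Groth.Agent.StAlg Groth.Agent.StAlg16 AlgSt

variable {S : Scheme.{u}} {𝒳 : AlgSt.Cat S}

/-- the automorphism spaces of objects over affine schemes are quasi-compact -/
def AutQC (𝒳 : AlgSt.Cat S) : Prop :=
  ∀ (U : Over S), IsAffine U.left → ∀ (x : FibCat.overCat U ⥤ᵇ 𝒳),
      ∃ (F : AlgSp.Space S) (e : AlgSt.ofSp F.obj ⥤ᵇ FibCat.fp (FibCat.fpLift x x (Iso.refl _)) (FibCat.diag (FibCat.toSelf 𝒳))),
        FibCat.IsEquivOver e ∧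
          AlgSp.IsQuasiCompactMor (AlgSt.spMapOfOver (BasedFunctor.comp e (FibCat.fpFst _ _)))

/-- objects isomorphic at a dense set of points are isomorphic generically -/
def GenIsom (𝒳 : AlgSt.Cat S) : Prop :=
  ∀ (U : Over S), IsAffine U.left → IsIntegral U.left → ∀ (x y : FibCat.overCat U ⥤ᵇ 𝒳)
      (D : Set ↥U.left), Dense D →
      (∀ t ∈ D, ∃ (L : Type u) (_ : Field L) (g : Spec (CommRingCat.of L) ⟶ U.left), Set.range g.base = {t} ∧
        Nonempty (BasedFunctor.comp (AlgSt.overMap (Over.homMk g rfl : Over.mk (g ≫ U.hom) ⟶ U)) x ≅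
          BasedFunctor.comp (AlgSt.overMap (Over.homMk g rfl : Over.mk (g ≫ U.hom) ⟶ U)) y)) →
      ∃ V : U.left.Opens, Dense (V : Set ↥U.left) ∧
        Nonempty (BasedFunctor.comp (AlgSt.overMap (Over.homMk V.ι rfl : Over.mk (V.ι ≫ U.hom) ⟶ U)) x ≅
          BasedFunctor.comp (AlgSt.overMap (Over.homMk V.ι rfl : Over.mk (V.ι ≫ U.hom) ⟶ U)) y)

theorem qc_fp_autQC (h𝒳 : IsAlgStack Scheme.fppfPrecoverage 𝒳) (hi : AutQC 𝒳) {V : Over S} [IsAffine V.left]
    (x : FibCat.overCat V ⥤ᵇ 𝒳) :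
    AlgSt.IsQuasiCompact (FibCat.fp (FibCat.fpLift x x (Iso.refl _)) (FibCat.diag (FibCat.toSelf 𝒳))) := by
  obtain ⟨F, e, he, hP⟩ := hi V inferInstance x
  have hV := AlgSp.IsAlgSpace.yon_obj V
  haveI := AlgSpace.compactSpace_yon_of_affine V
  have hF : AlgSp.IsQuasiCompactSp F.obj :=
    hP hV ((AlgSpace.isQuasiCompactSp_iff hV).2 inferInstance) (𝟙 _) (𝟙 _) _
      (IsPullback.of_horiz_isIso ⟨by rw [Category.id_comp, Category.comp_id]⟩)
  exact qc_of_equiv (isAlgStack_ofSp F.property)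
    (isAlgStack_fp' (isAlgStack_overCat V) h𝒳 (StAlg.isAlgStack_prod h𝒳 h𝒳) _ _) he
    ((isQuasiCompact_ofSp_iff F.property).2 hF)

theorem genQC_chart (h𝒳 : IsAlgStack Scheme.fppfPrecoverage 𝒳) (hi : AutQC 𝒳) (hii : GenIsom 𝒳) {T : Over S}
    (z : FibCat.overCat T ⥤ᵇ FibCat.fp (FibCat.toSelf 𝒳) (FibCat.toSelf 𝒳)) :
    GenQC (FibCat.fpFst z (FibCat.diag (FibCat.toSelf 𝒳))) := by
  intro Z hZa hZi h
  let δ := FibCat.diag (FibCat.toSelf 𝒳)
  let Φ := FibCat.fpFst z δ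
  let p₁ := FibCat.fpFst (FibCat.toSelf 𝒳) (FibCat.toSelf 𝒳)
  let p₂ := FibCat.fpSnd (FibCat.toSelf 𝒳) (FibCat.toSelf 𝒳)
  let b : FibCat.overCat Z ⥤ᵇ _ := BasedFunctor.comp (AlgSt.overMap h) z
  have hProd := StAlg.isAlgStack_prod h𝒳 h𝒳
  have hA := isAlgStack_fp' (isAlgStack_overCat T) h𝒳 hProd z δ
  let D : Set ↥Z.left := {v | h.left v ∈ Set.range fun p => ptOf (Points.map Φ p)}
  by_cases hD : Dense D
  · -- isomorphic at a dense set of points
    obtain ⟨V, hV, ⟨α⟩⟩ := hii Z hZa hZi (BasedFunctor.comp b p₁) (BasedFunctor.comp b p₂) D hD fun v hv => by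
      obtain ⟨p, hp⟩ := hv
      have e0 : Points.map (AlgSt.overMap h) (Points.mk (chartPt Z v)) = Points.map Φ p := by
        rw [map_overMap_chartPt, ← mk_chartPt_ptOf (Points.map Φ p)]
        exact congrArg (fun t => Points.mk (chartPt T t)) hp.symm
      obtain ⟨w, hw, -⟩ := exists_fp_point hA.isStack.1 (overCat_isFibGrpd T) (overCat_isFibGrpd Z)
        Φ (AlgSt.overMap h) _ _ e0
      obtain ⟨K, _, str, E, t, ht⟩ := exists_field_point
        (fp_isFibGrpd (overCat_isFibGrpd Z) hA.isStack.1 (overCat_isFibGrpd T) _ _) w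
      obtain ⟨g, ⟨ig⟩⟩ := exists_overMap_iso (BasedFunctor.comp E (FibCat.fpFst (AlgSt.overMap h) Φ))
      have hgv : g.left t = v := by
        have h1 := congrArg ptOf hw
        rw [← ht, ofChart_eq, ← StAlg16.map_comp_apply, map_eq_map_of_iso ig, map_overMap_chartPt, ptOf_chartPt,
          ptOf_chartPt] at h1
        exact h1
      let u := BasedFunctor.comp (BasedFunctor.comp E (FibCat.fpSnd (AlgSt.overMap h) Φ)) (FibCat.fpSnd z δ)
      have hu : BasedFunctor.comp (AlgSt.overMap g) b ≅ BasedFunctor.comp u δ :=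
        wrIso (wrIso ig.symm (AlgSt.overMap h)) z ≪≫
          wlIso E (wrIso (FibCat.fpIso (AlgSt.overMap h) Φ) z) ≪≫
          wlIso (BasedFunctor.comp E (FibCat.fpSnd (AlgSt.overMap h) Φ)) (FibCat.fpIso z δ)
      have hu' : BasedFunctor.comp (AlgSt.overMap g) (BasedFunctor.comp b p₁) ≅
          BasedFunctor.comp (AlgSt.overMap g) (BasedFunctor.comp b p₂) :=
        wrIso hu p₁ ≪≫ (wrIso hu p₂).symm
      obtain ⟨gl, hgl, rfl⟩ : ∃ (gl : Spec (CommRingCat.of K) ⟶ Z.left) (hgl : str = gl ≫ Z.hom),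
          g = Over.homMk gl hgl.symm := ⟨g.left, (Over.w g).symm, rfl⟩
      subst hgl
      refine ⟨K, inferInstance, gl, ?_, ⟨hu'⟩⟩
      ext x
      constructor
      · rintro ⟨y, rfl⟩
        rw [show y = t from Subsingleton.elim (α := PrimeSpectrum K) y t]
        exact hgv
      · intro hx
        exact ⟨t, hgv.trans (Set.mem_singleton_iff.1 hx).symm⟩
    obtain ⟨v, hv⟩ := hV.nonempty
    obtain ⟨W, hW, hvW, hWV⟩ := exists_isAffineOpen_mem_and_subset (X := Z.left) (x := v) (U := V) hv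
    haveI : IsAffine (openPart W).left := hW
    let r : openPart W ⟶ Over.mk (V.ι ≫ Z.hom) := Over.homMk (Z.left.homOfLE hWV) (Scheme.homOfLE_ι_assoc _ _ _)
    have hr : r ≫ (Over.homMk V.ι rfl : Over.mk (V.ι ≫ Z.hom) ⟶ Z) = openIncl W :=
      Over.OverMorphism.ext (Scheme.homOfLE_ι _ (show W ≤ V from hWV))
    let ir : BasedFunctor.comp (AlgSt.overMap r) (AlgSt.overMap (Over.homMk V.ι rfl : Over.mk (V.ι ≫ Z.hom) ⟶ Z)) ≅
        AlgSt.overMap (openIncl W) := overMapComp r _ ≪≫ eqToIso (congrArg AlgSt.overMap hr)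
    let x' := BasedFunctor.comp (AlgSt.overMap (openIncl W)) (BasedFunctor.comp b p₁)
    have hx : x' ≅ BasedFunctor.comp (AlgSt.overMap (openIncl W)) (BasedFunctor.comp b p₂) :=
      wrIso ir.symm (BasedFunctor.comp b p₁) ≪≫ wlIso (AlgSt.overMap r) α ≪≫ wrIso ir (BasedFunctor.comp b p₂)
    obtain ⟨ib⟩ := pairIsoSelf (z := BasedFunctor.comp (AlgSt.overMap (openIncl W)) b)
      (z' := FibCat.fpLift x' x' (Iso.refl _)) (Iso.refl x') hx.symm
    have hW' := isAlgStack_overCat (openPart W)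
    refine ⟨W, ⟨v, hvW⟩, ?_⟩
    refine qc_of_equiv' (isAlgStack_fp' hW' hA (isAlgStack_overCat T) _ _)
      (isAlgStack_fp' hW' h𝒳 hProd _ δ) (pasteL_isEquivOver (AlgSt.overMap (openIncl W ≫ h)) z δ) ?_
    exact qc_fp_of_lift h𝒳 hProd hW' hW' (a := BasedFunctor.id _) (fun p => ⟨p, StAlg16.map_id_apply p⟩)
      (b := FibCat.fpLift x' x' (Iso.refl _))
      (wrIso (overMapComp (openIncl W) h).symm z ≪≫ ib) (qc_fp_autQC h𝒳 hi x')
  · -- no points over a nonempty open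
    let V : Z.left.Opens := ⟨(closure D)ᶜ, isClosed_closure.isOpen_compl⟩
    have hV : (V : Set ↥Z.left).Nonempty := by
      by_contra hne
      rw [Set.not_nonempty_iff_eq_empty] at hne
      exact hD (dense_iff_closure_eq.2 (Set.compl_empty_iff.1 hne))
    refine ⟨V, hV, ?_⟩
    have hP := isAlgStack_fp' (isAlgStack_overCat (openPart V)) hA (isAlgStack_overCat T)
      (AlgSt.overMap (openIncl V ≫ h)) Φ
    haveI : IsEmpty (Points (FibCat.fp (AlgSt.overMap (openIncl V ≫ h)) Φ)) := ⟨fun w => by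
      have e : Points.map (AlgSt.overMap (openIncl V ≫ h)) (Points.map (FibCat.fpFst _ Φ) w) =
          Points.map Φ (Points.map (FibCat.fpSnd _ Φ) w) := by
        rw [← StAlg16.map_comp_apply, ← StAlg16.map_comp_apply, map_eq_map_of_iso (FibCat.fpIso _ Φ)]
      rw [← mk_chartPt_ptOf (Points.map (FibCat.fpFst _ Φ) w), map_overMap_chartPt] at e
      have e' := congrArg ptOf e
      rw [ptOf_chartPt] at e'
      exact (ptOf (Points.map (FibCat.fpFst _ Φ) w)).2 (subset_closure ⟨_, e'.symm⟩)⟩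
    exact isQuasiCompact_of_compactSpace hP

/-- Quasi-compactness of the diagonal. -/
theorem with_qc_diag [IsLocallyNoetherian S] (h𝒳 : IsAlgStack Scheme.fppfPrecoverage 𝒳)
    (hlfp : ∀ (U : Over S) (x : FibCat.overCat U ⥤ᵇ 𝒳),
      AlgSt.RepByAlgSpWith (AlgSp.LocP @Smooth) x → LocallyOfFinitePresentation U.hom)
    (hi : AutQC 𝒳) (hii : GenIsom 𝒳) :
    AlgSt.RepByAlgSpWith AlgSp.IsQuasiCompactMor (FibCat.diag (FibCat.toSelf 𝒳)) := by
  have gX := h𝒳.isStack.1
  have gS : FibCat.IsFibGrpd (FibCat.selfOver (Over S)).p := selfOver_isFibGrpd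
  obtain ⟨U, x, hx, hxs⟩ := h𝒳.atlas
  haveI : LocallyOfFinitePresentation U.hom := hlfp U x hx
  haveI : IsLocallyNoetherian U.left := LocallyOfFiniteType.isLocallyNoetherian U.hom
  obtain ⟨T, F₀, hF₀⟩ := isRepresentable_prod U U
  obtain ⟨F, hF, -, -⟩ := exists_inverse hF₀
  obtain ⟨q, ⟨iq⟩⟩ := exists_overMap_iso (BasedFunctor.comp F
    (FibCat.fpFst (FibCat.toSelf (FibCat.overCat U)) (FibCat.toSelf (FibCat.overCat U))))
  haveI : IsLocallyNoetherian T.left := by
    have hq := (with_congr (f := FibCat.fpFst (FibCat.toSelf (FibCat.overCat U)) (FibCat.toSelf (FibCat.overCat U)))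
      (f' := AlgSt.overMap q) (a := F) (b := BasedFunctor.id _) hF isEquivOver_id iq.symm).1
      (with_fpFst _ (with_toSelf_lfp U))
    haveI : LocallyOfFinitePresentation q.left := of_with_locP_overMap q hq
    exact LocallyOfFiniteType.isLocallyNoetherian q.left
  let M := fpMap (F := BasedFunctor.comp x (FibCat.toSelf 𝒳)) (G := BasedFunctor.comp x (FibCat.toSelf 𝒳))
    (F' := FibCat.toSelf 𝒳) (G' := FibCat.toSelf 𝒳) (a := x) (b := x) (s := BasedFunctor.id (FibCat.selfOver (Over S)))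
    (Iso.refl _) (Iso.refl _)
  have e : (FibCat.fp (FibCat.toSelf (FibCat.overCat U)) (FibCat.toSelf (FibCat.overCat U))) =
      (FibCat.fp (BasedFunctor.comp x (FibCat.toSelf 𝒳)) (BasedFunctor.comp x (FibCat.toSelf 𝒳))) := by
    rw [selfOver_functor_eq (BasedFunctor.comp x (FibCat.toSelf 𝒳)) (FibCat.toSelf (FibCat.overCat U))]
  obtain ⟨F', hF'⟩ : ∃ F' : FibCat.overCat T ⥤ᵇ
      FibCat.fp (BasedFunctor.comp x (FibCat.toSelf 𝒳)) (BasedFunctor.comp x (FibCat.toSelf 𝒳)),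
      FibCat.IsEquivOver F' := by
    rw [← e]; exact ⟨F, hF⟩
  let z := BasedFunctor.comp F' M
  have hP := StAlg.isAlgStack_prod h𝒳 h𝒳
  have gP := fp_isFibGrpd (overCat_isFibGrpd U) (overCat_isFibGrpd U) gS
    (BasedFunctor.comp x (FibCat.toSelf 𝒳)) (BasedFunctor.comp x (FibCat.toSelf 𝒳))
  have hz : AlgSt.RepByAlgSpWith (AlgSp.LocP @Smooth) z :=
    with_comp_equiv hF' (with_fp_map goodP_locP gX gS (FibCat.toSelf 𝒳) (FibCat.toSelf 𝒳) hx hx)
  have hzs : AlgSt.RepByAlgSpWith AlgSp.IsSurjectiveMor z :=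
    with_comp_equiv hF' (with_fp_map goodP_surjective gX gS (FibCat.toSelf 𝒳) (FibCat.toSelf 𝒳) hxs hxs)
  have hA := isAlgStack_fp' (isAlgStack_overCat T) h𝒳 hP z (FibCat.diag (FibCat.toSelf 𝒳))
  have h1 := (with_qc_iff hA (isAlgStack_overCat T) (rep1_fpFst z h𝒳.diag)).2
    (isQuasiCompactMor_of_genQC hA (genQC_chart h𝒳 hi hii z))
  exact with_of_fpFst_cover (fun _ _ _ _ _ _ _ _ _ _ _ _ sq h => AlgSpace.isQuasiCompactMor_of_isPullback sq h)
    (isLocalOnBase_fppf_of_fpqc AlgSpDescent.isLocalOnBase_fpqc_isQuasiCompactMor)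
    gX hP.isStack.1 (overCat_isFibGrpd T) h𝒳.diag
    (with_locP_mono smooth_le_flat hz) (with_locP_mono smooth_le_lfp hz) hzs h1

end Groth.Agent.DiagQC16
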